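import Cfsg.Agent.Spor.Fi22A1.D0

set_option autoImplicit false
set_option maxRecDepth 100000000
set_option Elab.async false

namespace Cfsg.Agent.Spor.Fi22A1

theorem ok0 : Net.okb 1 n0 = true := by decide +kernel

theorem ok1 : Net.okb 1 n1 = true := by decide +kernel

theorem ok2 : Net.okb 1 n2 = true := by decide +kernel

theorem ok3 : Net.okb 1 n3 = true := by decide +kernel

theorem ok4 : Net.okb 1 n4 = true := by decide +kernel

theorem ok5 : Net.okb 1 n5 = true := by decide +kernel

theorem ok6 : Net.okb 1 n6 = true := by decide +kernel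

theorem ok7 : Net.okb 1 n7 = true := by decide +kernel

theorem ok8 : Net.okb 1 n8 = true := by decide +kernel

theorem rel0 : T.rel 1 [1, 1] 0 1 = true := by decide +kernel

theorem rel1 : T.rel 1 [2, 2] 0 1 = true := by decide +kernel

theorem rel2 : T.rel 1 [3, 3] 0 1 = true := by decide +kernel

theorem rel3 : T.rel 1 [4, 4] 0 1 = true := by decide +kernel

theorem rel4 : T.rel 1 [5, 5] 0 1 = true := by decide +kernel

theorem rel5 : T.rel 1 [6, 6] 0 1 = true := by decide +kernel

theorem rel6 : T.rel 1 [7, 7] 0 1 = true := by decide +kernel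

theorem rel7 : T.rel 1 [8, 8] 0 1 = true := by decide +kernel

theorem rel8 : T.rel 1 [9, 9] 0 1 = true := by decide +kernel

theorem rel9 : T.rel 1 [2, 1, 2, 1, 2, 1] 0 1 = true := by decide +kernel

theorem rel10 : T.rel 1 [3, 1, 3, 1] 0 1 = true := by decide +kernel

theorem rel11 : T.rel 1 [4, 1, 4, 1] 0 1 = true := by decide +kernel

theorem rel12 : T.rel 1 [5, 1, 5, 1] 0 1 = true := by decide +kernel

theorem rel13 : T.rel 1 [6, 1, 6, 1] 0 1 = true := by decide +kernel

theorem rel14 : T.rel 1 [7, 1, 7, 1] 0 1 = true := by decide +kernel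

theorem rel15 : T.rel 1 [8, 1, 8, 1] 0 1 = true := by decide +kernel

theorem rel16 : T.rel 1 [9, 1, 9, 1] 0 1 = true := by decide +kernel

theorem rel17 : T.rel 1 [3, 2, 3, 2, 3, 2] 0 1 = true := by decide +kernel

theorem rel18 : T.rel 1 [4, 2, 4, 2] 0 1 = true := by decide +kernel

theorem rel19 : T.rel 1 [5, 2, 5, 2] 0 1 = true := by decide +kernel

theorem rel20 : T.rel 1 [6, 2, 6, 2] 0 1 = true := by decide +kernel

theorem rel21 : T.rel 1 [7, 2, 7, 2] 0 1 = true := by decide +kernel

theorem rel22 : T.rel 1 [8, 2, 8, 2] 0 1 = true := by decide +kernel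

theorem rel23 : T.rel 1 [9, 2, 9, 2] 0 1 = true := by decide +kernel

theorem rel24 : T.rel 1 [4, 3, 4, 3, 4, 3] 0 1 = true := by decide +kernel

theorem rel25 : T.rel 1 [5, 3, 5, 3] 0 1 = true := by decide +kernel

theorem rel26 : T.rel 1 [6, 3, 6, 3] 0 1 = true := by decide +kernel

theorem rel27 : T.rel 1 [7, 3, 7, 3] 0 1 = true := by decide +kernel

theorem rel28 : T.rel 1 [8, 3, 8, 3] 0 1 = true := by decide +kernel

theorem rel29 : T.rel 1 [9, 3, 9, 3] 0 1 = true := by decide +kernel

theorem rel30 : T.rel 1 [5, 4, 5, 4, 5, 4] 0 1 = true := by decide +kernel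

theorem rel31 : T.rel 1 [6, 4, 6, 4] 0 1 = true := by decide +kernel

theorem rel32 : T.rel 1 [7, 4, 7, 4] 0 1 = true := by decide +kernel

theorem rel33 : T.rel 1 [8, 4, 8, 4, 8, 4] 0 1 = true := by decide +kernel

theorem rel34 : T.rel 1 [9, 4, 9, 4] 0 1 = true := by decide +kernel

theorem rel35 : T.rel 1 [6, 5, 6, 5, 6, 5] 0 1 = true := by decide +kernel

theorem rel36 : T.rel 1 [7, 5, 7, 5] 0 1 = true := by decide +kernel

theorem rel37 : T.rel 1 [8, 5, 8, 5] 0 1 = true := by decide +kernel

theorem rel38 : T.rel 1 [9, 5, 9, 5] 0 1 = true := by decide +kernel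

theorem rel39 : T.rel 1 [7, 6, 7, 6, 7, 6] 0 1 = true := by decide +kernel

theorem rel40 : T.rel 1 [8, 6, 8, 6] 0 1 = true := by decide +kernel

theorem rel41 : T.rel 1 [9, 6, 9, 6] 0 1 = true := by decide +kernel

theorem rel42 : T.rel 1 [8, 7, 8, 7] 0 1 = true := by decide +kernel

theorem rel43 : T.rel 1 [9, 7, 9, 7] 0 1 = true := by decide +kernel

theorem rel44 : T.rel 1 [9, 8, 9, 8, 9, 8] 0 1 = true := by decide +kernel

theorem rel45 : T.rel 1 [9, 8, 4, 6, 5, 4, 2, 3, 4, 9, 8, 4, 6, 5, 4, 2, 3, 4, 9, 8, 4, 6, 5, 4, 2, 3, 4, 9, 8, 4, 6, 5, 4, 2, 3, 4, 9, 8, 4, 6, 5, 4, 2, 3, 4, 9, 8, 4, 6, 5, 4, 2, 3, 4, 9, 8, 4, 6, 5, 4, 2, 3, 4, 9, 8, 4, 6, 5, 4, 2, 3, 4, 9, 8, 4, 6, 5, 4, 2, 3, 4, 9, 8, 4, 6, 5, 4, 2, 3, 4] 0 1 = true := by decide +kernel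

theorem rel46 : T.rel 1 [8, 6, 5, 4, 3, 2, 1, 8, 6, 5, 4, 3, 2, 1, 8, 6, 5, 4, 3, 2, 1, 8, 6, 5, 4, 3, 2, 1, 8, 6, 5, 4, 3, 2, 1, 8, 6, 5, 4, 3, 2, 1, 8, 6, 5, 4, 3, 2, 1, 8, 6, 5, 4, 3, 2, 1, 8, 6, 5, 4, 3, 2, 1] 0 1 = true := by decide +kernel

theorem rel47 : T.rel 1 [8, 7, 6, 5, 4, 3, 2, 8, 7, 6, 5, 4, 3, 2, 8, 7, 6, 5, 4, 3, 2, 8, 7, 6, 5, 4, 3, 2, 8, 7, 6, 5, 4, 3, 2, 8, 7, 6, 5, 4, 3, 2, 8, 7, 6, 5, 4, 3, 2, 8, 7, 6, 5, 4, 3, 2, 8, 7, 6, 5, 4, 3, 2] 0 1 = true := by decide +kernel

theorem rel48 : T.rel 1 [2, 1, 2, 1] 0 1 = true := by decide +kernel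

theorem rel49 : T.rel 1 [3, 2, 3, 2] 0 1 = true := by decide +kernel

theorem rel50 : T.rel 1 [4, 3, 4, 3] 0 1 = true := by decide +kernel

theorem rel51 : T.rel 1 [5, 4, 5, 4] 0 1 = true := by decide +kernel

theorem rel52 : T.rel 1 [8, 4, 8, 4] 0 1 = true := by decide +kernel

theorem rel53 : T.rel 1 [6, 5, 6, 5] 0 1 = true := by decide +kernel

theorem rel54 : T.rel 1 [7, 6, 7, 6] 0 1 = true := by decide +kernel

theorem rel55 : T.rel 1 [9, 8, 9, 8] 0 1 = true := by decide +kernel

theorem hcov : T.treeCov (ones 1) L 1 = true := by decide +kernel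

theorem hg : lall (fun z => band (memL L z) (band (sub (ones 1) (T.let z).cl) (T.closed (ones 1) z))) gs = true := by decide +kernel

theorem hivk : ivOk (2 * 9) EX IV = true := by decide +kernel

theorem hrt : RT.ok (2 * 9) EX RL = true := by decide +kernel

theorem hdefs : defs F 21 = true := by decide +kernel

noncomputable def st0_l : List Nat := [nat_lit 0xe0000100000003, nat_lit 0x78000ac0000200003000078000ac06, nat_lit 0xe0001680000403, nat_lit 0x170000ac02, nat_lit 0x100000200000003, nat_lit 0x4000188000c803, nat_lit 0x198000c00000a00035000198000c006, nat_lit 0x110001b80000003, nat_lit 0x1c00001002, nat_lit 0x120000300000003, nat_lit 0x60001d0000f003, nat_lit 0x1e8000ec0000e0003f0001e8000ec06, nat_lit 0x130002080000003, nat_lit 0x2100001802, nat_lit 0x140000400000003, nat_lit 0x80002200011803, nat_lit 0x2380011400012000490002380011406, nat_lit 0x150002580000003, nat_lit 0x2600002002, nat_lit 0x160000500000003, nat_lit 0xa0002700014003, nat_lit 0x2880013c00016000530002880013c06, nat_lit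 0x170002a80000003, nat_lit 0x2b00002802, nat_lit 0x180000600000003, nat_lit 0xc0002200016803, nat_lit 0x2d8001140001a0005d0002d80011406, nat_lit 0x190002f80000003, nat_lit 0x3000003002, nat_lit 0x180000e80008a0004e0002c80018800002000310001d8001100009e0005800031800000000600003a00022800138000b200062000008000c4000760004400027800160000c600000000180000e80008a0004e0002c80018800002000310001d8001100009e0005800031800000000600003a00022800138000b200062000008000c4000760004400027800160000c600000000180000e80008a0004e0002c8001883f, nat_lit 0x80019402, nat_lit 0x1a0003380006c03, nat_lit 0x34000068000cc0001b0003400006806, nat_lit 0xd8001ac02, nat_lit 0x1c0003680007403, nat_lit 0x37000070000d80001d0003700007006, nat_lit 0xe8001c402, nat_lit 0x1e0003980007c03, nat_lit 0x3a000078000e40001f0003a00007806, nat_lit 0xf8001dc02, nat_lit 0x200003c80008403, nat_lit 0x3d000080000f0000210003d00008006, nat_lit 0x108001f402, nat_lit 0x220003f80008c03, nat_lit 0x40000088000fc000230004000008806, nat_lit 0x1180020c02, nat_lit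 0x240004280009403, nat_lit 0x4300009000108000250004300009006, nat_lit 0x1280022402, nat_lit 0x260003c80009c03, nat_lit 0x46000098000f0000270004600009806, nat_lit 0x1380023c02, nat_lit 0x28000488000a403, nat_lit 0x490000a00012000029000490000a006, nat_lit 0x1480025402]
theorem st0 : band (steps F IV RT base st0_l 21) (Nat.beq (Nat.add 21 (llen st0_l)) 76) = true := by decide +kernel

theorem ep0a : T.treePath [] (Nat.shiftLeft 1 0) 1 = true := by decide +kernel

theorem ep0b : T.treePath [] (Nat.shiftLeft 1 0) 1 = true := by decide +kernel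

theorem ep0c : band (lall (fun z => Nat.ble z 255) ([] ++ 1 :: [])) (concl F IV 76 0x19801 (encA ([] ++ 1 :: []) 0)) = true := by decide +kernel

theorem ep0d : band (Rule.ok (2 * 9) EX [] ⟨lapp [] [], [], 0, false⟩) (band (lall (memL L) []) (lall (memL L) [])) = true := by decide +kernel

theorem cov1 : T.cover 1 [(Nat.shiftLeft 1 0)] = true := by decide +kernel

theorem tl1 : Nat.beq (T.let 1).tt 0 = true := by decide +kernel

theorem ep1a : T.treePath [] (Nat.shiftLeft 1 0) 1 = true := by decide +kernel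

theorem ep1b : T.treePath [] (Nat.shiftLeft 1 0) 1 = true := by decide +kernel

theorem ep1c : band (lall (fun z => Nat.ble z 255) ([] ++ 2 :: [])) (concl F IV 76 0x1b001 (encA ([] ++ 2 :: []) 0)) = true := by decide +kernel

theorem ep1d : band (Rule.ok (2 * 9) EX [] ⟨lapp [] [], [], 0, false⟩) (band (lall (memL L) []) (lall (memL L) [])) = true := by decide +kernel

theorem cov2 : T.cover 2 [(Nat.shiftLeft 1 0)] = true := by decide +kernel

theorem tl2 : Nat.beq (T.let 2).tt 0 = true := by decide +kernel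

theorem ep2a : T.treePath [] (Nat.shiftLeft 1 0) 1 = true := by decide +kernel

theorem ep2b : T.treePath [] (Nat.shiftLeft 1 0) 1 = true := by decide +kernel

theorem ep2c : band (lall (fun z => Nat.ble z 255) ([] ++ 3 :: [])) (concl F IV 76 0x1c801 (encA ([] ++ 3 :: []) 0)) = true := by decide +kernel

theorem ep2d : band (Rule.ok (2 * 9) EX [] ⟨lapp [] [], [], 0, false⟩) (band (lall (memL L) []) (lall (memL L) [])) = true := by decide +kernel

theorem cov3 : T.cover 3 [(Nat.shiftLeft 1 0)] = true := by decide +kernel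

theorem tl3 : Nat.beq (T.let 3).tt 0 = true := by decide +kernel

theorem ep3a : T.treePath [] (Nat.shiftLeft 1 0) 1 = true := by decide +kernel

theorem ep3b : T.treePath [] (Nat.shiftLeft 1 0) 1 = true := by decide +kernel

theorem ep3c : band (lall (fun z => Nat.ble z 255) ([] ++ 4 :: [])) (concl F IV 76 0x1e001 (encA ([] ++ 4 :: []) 0)) = true := by decide +kernel

theorem ep3d : band (Rule.ok (2 * 9) EX [] ⟨lapp [] [], [], 0, false⟩) (band (lall (memL L) []) (lall (memL L) [])) = true := by decide +kernel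

theorem cov4 : T.cover 4 [(Nat.shiftLeft 1 0)] = true := by decide +kernel

theorem tl4 : Nat.beq (T.let 4).tt 0 = true := by decide +kernel

theorem ep4a : T.treePath [] (Nat.shiftLeft 1 0) 1 = true := by decide +kernel

theorem ep4b : T.treePath [] (Nat.shiftLeft 1 0) 1 = true := by decide +kernel

theorem ep4c : band (lall (fun z => Nat.ble z 255) ([] ++ 5 :: [])) (concl F IV 76 0x1f801 (encA ([] ++ 5 :: []) 0)) = true := by decide +kernel

theorem ep4d : band (Rule.ok (2 * 9) EX [] ⟨lapp [] [], [], 0, false⟩) (band (lall (memL L) []) (lall (memL L) [])) = true := by decide +kernel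

theorem cov5 : T.cover 5 [(Nat.shiftLeft 1 0)] = true := by decide +kernel

theorem tl5 : Nat.beq (T.let 5).tt 0 = true := by decide +kernel

theorem ep5a : T.treePath [] (Nat.shiftLeft 1 0) 1 = true := by decide +kernel

theorem ep5b : T.treePath [] (Nat.shiftLeft 1 0) 1 = true := by decide +kernel

theorem ep5c : band (lall (fun z => Nat.ble z 255) ([] ++ 6 :: [])) (concl F IV 76 0x21001 (encA ([] ++ 6 :: []) 0)) = true := by decide +kernel

theorem ep5d : band (Rule.ok (2 * 9) EX [] ⟨lapp [] [], [], 0, false⟩) (band (lall (memL L) []) (lall (memL L) [])) = true := by decide +kernel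

theorem cov6 : T.cover 6 [(Nat.shiftLeft 1 0)] = true := by decide +kernel

theorem tl6 : Nat.beq (T.let 6).tt 0 = true := by decide +kernel

theorem ep6a : T.treePath [] (Nat.shiftLeft 1 0) 1 = true := by decide +kernel

theorem ep6b : T.treePath [] (Nat.shiftLeft 1 0) 1 = true := by decide +kernel

theorem ep6c : band (lall (fun z => Nat.ble z 255) ([] ++ 7 :: [])) (concl F IV 76 0x22801 (encA ([] ++ 7 :: []) 0)) = true := by decide +kernel

theorem ep6d : band (Rule.ok (2 * 9) EX [] ⟨lapp [] [], [], 0, false⟩) (band (lall (memL L) []) (lall (memL L) [])) = true := by decide +kernel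

theorem cov7 : T.cover 7 [(Nat.shiftLeft 1 0)] = true := by decide +kernel

theorem tl7 : Nat.beq (T.let 7).tt 0 = true := by decide +kernel

theorem ep7a : T.treePath [] (Nat.shiftLeft 1 0) 1 = true := by decide +kernel

theorem ep7b : T.treePath [] (Nat.shiftLeft 1 0) 1 = true := by decide +kernel

theorem ep7c : band (lall (fun z => Nat.ble z 255) ([] ++ 8 :: [])) (concl F IV 76 0x24001 (encA ([] ++ 8 :: []) 0)) = true := by decide +kernel

theorem ep7d : band (Rule.ok (2 * 9) EX [] ⟨lapp [] [], [], 0, false⟩) (band (lall (memL L) []) (lall (memL L) [])) = true := by decide +kernel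

theorem cov8 : T.cover 8 [(Nat.shiftLeft 1 0)] = true := by decide +kernel

theorem tl8 : Nat.beq (T.let 8).tt 0 = true := by decide +kernel

theorem ep8a : T.treePath [] (Nat.shiftLeft 1 0) 1 = true := by decide +kernel

theorem ep8b : T.treePath [] (Nat.shiftLeft 1 0) 1 = true := by decide +kernel

theorem ep8c : band (lall (fun z => Nat.ble z 255) ([] ++ 9 :: [])) (concl F IV 76 0x25801 (encA ([] ++ 9 :: []) 0)) = true := by decide +kernel

theorem ep8d : band (Rule.ok (2 * 9) EX [] ⟨lapp [] [], [], 0, false⟩) (band (lall (memL L) []) (lall (memL L) [])) = true := by decide +kernel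

theorem cov9 : T.cover 9 [(Nat.shiftLeft 1 0)] = true := by decide +kernel

theorem tl9 : Nat.beq (T.let 9).tt 0 = true := by decide +kernel

end Cfsg.Agent.Spor.Fi22A1
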